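import Groth.Agent.Lib.Helper2.LocGen.Alg
import Groth.Agent.Lib.Helper29.QCohGen

/-! # Local generation ⇒ global generation on `Spec R` -/

universe u
open CategoryTheory CategoryTheory.Limits AlgebraicGeometry TopologicalSpace Opposite

namespace Groth.Agent.Lib.Helper2.LocGen

open Groth.Agent.Lib.Helper29.QCoh

variable {R : CommRingCat.{u}} (M : ModuleCat.{u} R)

/-- `M → Γ(M~, U)` as a plain `R`-linear map. -/
noncomputable def τ (U : (Spec R).Opens) : M →ₗ[R] Γ(tilde M, U) :=
  (tilde.toOpen M U).hom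

theorem res_τ {U V : (Spec R).Opens} (h : V ≤ U) (v : M) :
    res (tilde M) h (τ M U v) = τ M V v := by
  have := tilde.toOpen_res M U V (homOfLE h)
  exact congrArg (fun f => f.hom v) this

theorem res_smul_R (F : (Spec R).Modules) {U V : (Spec R).Opens} (h : V ≤ U) (r : R) (s : Γ(F, U)) :
    res F h (r • s) = r • res F h s :=
  Scheme.Modules.map_smul_Spec (M := F) (homOfLE h).op r s

theorem exists_pow_smul_eq_τ (a : R) (s : Γ(tilde M, PrimeSpectrum.basicOpen a)) :
    ∃ (k : ℕ) (t : M), a ^ k • s = τ M (PrimeSpectrum.basicOpen a) t := by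
  obtain ⟨⟨t, ⟨_, k, rfl⟩⟩, h⟩ := IsLocalizedModule.surj (Submonoid.powers a)
    (tilde.toOpen M (PrimeSpectrum.basicOpen a)).hom s
  exact ⟨k, t, h⟩

theorem exists_pow_smul_eq_τ_fin (a : R) {J : Type*} [Fintype J]
    (s : J → Γ(tilde M, PrimeSpectrum.basicOpen a)) :
    ∃ (k : ℕ) (t : J → M), ∀ j, a ^ k • s j = τ M (PrimeSpectrum.basicOpen a) (t j) := by
  classical
  choose k t h using fun j => exists_pow_smul_eq_τ M a (s j)
  refine ⟨∑ j, k j, fun j => a ^ ((∑ j, k j) - k j) • t j, fun j => ?_⟩
  have hk : k j ≤ ∑ j, k j := Finset.single_le_sum (f := k) (fun _ _ => Nat.zero_le _)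
    (Finset.mem_univ j)
  rw [map_smul, ← h j, smul_smul, ← pow_add, Nat.sub_add_cancel hk]

/-- The ring map `R → O_{Spec R, x}`. -/
noncomputable def toSt (x : Spec R) : R →+* (Spec R).presheaf.stalk x :=
  (StructureSheaf.toStalk R x).hom

theorem germ_smul_R (F : (Spec R).Modules) (U : (Spec R).Opens) (x : Spec R) (hx : x ∈ U) (r : R)
    (s : Γ(F, U)) :
    F.presheaf.germ U x hx (r • s) = toSt x r • F.presheaf.germ U x hx s := by
  rw [Scheme.Modules.smul_Spec_def, germ_smul]
  congr 1
  exact (Spec R).presheaf.germ_res_apply (U.leTop) x hx _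

theorem isLoc (x : Spec R) : @IsLocalization.AtPrime R _ ((Spec R).presheaf.stalk x) _
    (toSt x).toAlgebra x.asIdeal _ :=
  StructureSheaf.IsLocalization.to_stalk R x

theorem toStalk_eq (x : Spec R) (u : M) :
    (tilde.toStalk M x).hom u = (tilde M).presheaf.germ ⊤ x trivial (τ M ⊤ u) := by
  rfl

theorem exists_smul_eq_zero (x : Spec R) (u : M)
    (h : (tilde M).presheaf.germ ⊤ x trivial (τ M ⊤ u) = 0) :
    ∃ e : R, e ∉ x.asIdeal ∧ e • u = 0 := by
  rw [← toStalk_eq] at h
  obtain ⟨⟨e, he⟩, h2⟩ := (IsLocalizedModule.eq_zero_iff x.asIdeal.primeCompl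
    (tilde.toStalk M x).hom).mp h
  exact ⟨e, he, h2⟩

/-- **Local generators give global generators.** If `Spec R` is covered by finitely many opens
`U i` and over each `U i` there are sections `s i j` (`j : J`) of `M~` whose germs generate all
stalks on `U i`, then `M` is generated by a family indexed by `ι × J`. -/
theorem exists_generators_of_sections {ι J : Type*} [Fintype ι] [Fintype J]
    (U : ι → (Spec R).Opens) (hU : ⨆ i, U i = ⊤)
    (s : ∀ i, J → Γ(tilde M, U i))
    (hs : ∀ i (x : Spec R) (hx : x ∈ U i), Submodule.span ((Spec R).presheaf.stalk x)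
      (Set.range fun j => (tilde M).presheaf.germ (U i) x hx (s i j)) = ⊤) :
    ∃ t : ι × J → M, Submodule.span R (Set.range t) = ⊤ := by
  classical
  obtain ⟨a, ha1, haU⟩ := exists_partition (R := R) U hU
  choose k t ht using fun i => exists_pow_smul_eq_τ_fin M (a i)
    (fun j => res (tilde M) (haU i) (s i j))
  refine ⟨fun p => t p.1 p.2, ?_⟩
  apply eq_top_of_forall_maximal
  intro 𝔪 hmax v
  let x : Spec R := (⟨𝔪, hmax.isPrime⟩ : PrimeSpectrum R)
  have hex : ∃ i, a i ∉ 𝔪 := by
    by_contra hall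
    push_neg at hall
    have : (1 : R) ∈ 𝔪 := by
      rw [← ha1]; exact Ideal.sum_mem _ fun i _ => hall i
    exact hmax.ne_top ((Ideal.eq_top_iff_one _).mpr this)
  obtain ⟨i, hi⟩ := hex
  have hxD : x ∈ PrimeSpectrum.basicOpen (a i) := hi
  have hxU : x ∈ U i := haU i hxD
  set D : (Spec R).Opens := PrimeSpectrum.basicOpen (a i) with hD
  let g : J → (tilde M).presheaf.stalk x := fun j =>
    (tilde M).presheaf.germ D x hxD (res (tilde M) (haU i) (s i j))
  have hg : Submodule.span ((Spec R).presheaf.stalk x) (Set.range g) = ⊤ := by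
    have := hs i x hxU
    convert this using 3
    funext j
    exact germ_res (tilde M) (haU i) x hxD (s i j)
  letI : Algebra R ((Spec R).presheaf.stalk x) := (toSt x).toAlgebra
  haveI : IsLocalization.AtPrime ((Spec R).presheaf.stalk x) x.asIdeal := isLoc x
  obtain ⟨d, hd, r, hr⟩ := exists_denominator x.asIdeal g hg
    ((tilde M).presheaf.germ D x hxD (τ M D v))
  have hr' : toSt x d • (tilde M).presheaf.germ D x hxD (τ M D v) =
      ∑ j, toSt x (r j) • g j := hr
  let u : M := (a i ^ k i * d) • v - ∑ j, r j • t i j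
  have hu : (tilde M).presheaf.germ ⊤ x trivial (τ M ⊤ u) = 0 := by
    rw [← germ_res (tilde M) (le_top : D ≤ ⊤) x hxD, res_τ]
    have e1 : τ M D u = (a i ^ k i * d) • τ M D v -
        ∑ j, r j • (a i ^ k i • res (tilde M) (haU i) (s i j)) := by
      simp only [u, map_sub, map_smul, map_sum]
      congr 1
      refine Finset.sum_congr rfl fun j _ => ?_
      rw [ht i j]
    rw [e1, map_sub, map_sum, germ_smul_R, map_mul, mul_smul, hr', Finset.smul_sum, sub_eq_zero]
    refine Finset.sum_congr rfl fun j _ => ?_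
    rw [germ_smul_R, germ_smul_R, smul_smul, smul_smul, mul_comm]
  obtain ⟨e, he, heu⟩ := exists_smul_eq_zero M x u hu
  refine ⟨e * (a i ^ k i * d), ?_, ?_⟩
  · intro hmem
    rcases hmax.isPrime.mem_or_mem hmem with h | h
    · exact he h
    · rcases hmax.isPrime.mem_or_mem h with h | h
      · exact hi (hmax.isPrime.mem_of_pow_mem _ h)
      · exact hd h
  · have : (e * (a i ^ k i * d)) • v = ∑ j, (e * r j) • t i j := by
      have h2 : e • ((a i ^ k i * d) • v) = e • ∑ j, r j • t i j := by
        have := heu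
        simp only [u, smul_sub, sub_eq_zero] at this
        exact this
      rw [mul_smul, h2, Finset.smul_sum]
      refine Finset.sum_congr rfl fun j _ => ?_
      rw [mul_smul]
    rw [this]
    refine Submodule.sum_mem _ fun j _ => Submodule.smul_mem _ _ (Submodule.subset_span ?_)
    exact ⟨(i, j), rfl⟩

end Groth.Agent.Lib.Helper2.LocGen
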