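import Mathlib

/-! # Local generation ⇒ global generation: pure algebra parts -/

namespace Groth.Agent.Lib.Helper2.LocGen

/-- Clearing denominators in a span over a localization at a prime. -/
theorem exists_denominator {R L E : Type*} [CommRing R] [CommRing L] [Algebra R L] (p : Ideal R)
    [p.IsPrime] [IsLocalization.AtPrime L p] [AddCommGroup E] [Module L E] {J : Type*} [Fintype J]
    (g : J → E) (hg : Submodule.span L (Set.range g) = ⊤) (w : E) :
    ∃ d : R, d ∉ p ∧ ∃ r : J → R,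
      algebraMap R L d • w = ∑ j, algebraMap R L (r j) • g j := by
  classical
  have hw : w ∈ Submodule.span L (Set.range g) := by rw [hg]; trivial
  induction hw using Submodule.span_induction with
  | mem w hw =>
    obtain ⟨j, rfl⟩ := hw
    refine ⟨1, fun h => (Ideal.IsPrime.ne_top ‹_›) ((Ideal.eq_top_iff_one _).mpr h),
      fun k => if k = j then 1 else 0, ?_⟩
    rw [Finset.sum_eq_single j]
    · simp
    · intro b _ hb; simp [hb]
    · intro h; exact absurd (Finset.mem_univ j) h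
  | zero =>
    refine ⟨1, fun h => (Ideal.IsPrime.ne_top ‹_›) ((Ideal.eq_top_iff_one _).mpr h),
      fun _ => 0, ?_⟩
    simp
  | add a b _ _ ha hb =>
    obtain ⟨d1, hd1, r1, h1⟩ := ha
    obtain ⟨d2, hd2, r2, h2⟩ := hb
    refine ⟨d1 * d2, fun h => (Ideal.IsPrime.mem_or_mem ‹_› h).elim hd1 hd2,
      fun j => d2 * r1 j + d1 * r2 j, ?_⟩
    have e1 : algebraMap R L (d1 * d2) • a = ∑ j, algebraMap R L (d2 * r1 j) • g j := by
      rw [mul_comm, map_mul, mul_smul, h1, Finset.smul_sum]
      refine Finset.sum_congr rfl fun j _ => ?_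
      rw [map_mul, mul_smul]
    have e2 : algebraMap R L (d1 * d2) • b = ∑ j, algebraMap R L (d1 * r2 j) • g j := by
      rw [map_mul, mul_smul, h2, Finset.smul_sum]
      refine Finset.sum_congr rfl fun j _ => ?_
      rw [map_mul, mul_smul]
    rw [smul_add, e1, e2, ← Finset.sum_add_distrib]
    refine Finset.sum_congr rfl fun j _ => ?_
    rw [map_add, add_smul]
  | smul c w _ hw =>
    obtain ⟨d, hd, r, h⟩ := hw
    obtain ⟨⟨a, ⟨d', hd'⟩⟩, hc⟩ := IsLocalization.surj p.primeCompl c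
    simp only at hc
    refine ⟨d' * d, fun h => (Ideal.IsPrime.mem_or_mem ‹_› h).elim hd' hd,
      fun j => a * r j, ?_⟩
    rw [map_mul, smul_smul, mul_assoc, mul_comm (algebraMap R L d) c, ← mul_assoc,
      mul_comm (algebraMap R L d') c, hc, mul_smul, h, Finset.smul_sum]
    refine Finset.sum_congr rfl fun j _ => ?_
    rw [map_mul, mul_smul]

/-- A finite open cover of `Spec R` admits a subordinate partition of unity. -/
theorem exists_partition {R : Type*} [CommRing R] {ι : Type*} [Fintype ι]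
    (U : ι → TopologicalSpace.Opens (PrimeSpectrum R)) (hU : ⨆ i, U i = ⊤) :
    ∃ a : ι → R, ∑ i, a i = 1 ∧ ∀ i, PrimeSpectrum.basicOpen (a i) ≤ U i := by
  classical
  let I : ι → Ideal R := fun i => PrimeSpectrum.vanishingIdeal ((U i : Set (PrimeSpectrum R))ᶜ)
  have hI : ⨆ i, I i = ⊤ := by
    by_contra hne
    obtain ⟨𝔪, hmax, hle⟩ := Ideal.exists_le_maximal _ hne
    let x : PrimeSpectrum R := ⟨𝔪, hmax.isPrime⟩
    have hx : x ∈ ⨆ i, U i := by rw [hU]; trivial
    obtain ⟨i, hi⟩ := TopologicalSpace.Opens.mem_iSup.mp hx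
    have hcl : IsClosed ((U i : Set (PrimeSpectrum R))ᶜ) := (U i).isOpen.isClosed_compl
    have h1 : x ∈ PrimeSpectrum.zeroLocus ((I i : Ideal R) : Set R) := by
      rw [PrimeSpectrum.mem_zeroLocus]
      exact (le_iSup I i).trans hle
    rw [PrimeSpectrum.zeroLocus_vanishingIdeal_eq_closure, hcl.closure_eq] at h1
    exact h1 hi
  have h1 : (1 : R) ∈ ⨆ i ∈ (Finset.univ : Finset ι), I i := by
    simp only [Finset.mem_univ, iSup_pos, hI]; trivial
  obtain ⟨μ, hμ⟩ := (Submodule.mem_iSup_finset_iff_exists_sum _ _).mp h1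
  refine ⟨fun i => (μ i : R), hμ, fun i x hx => ?_⟩
  by_contra hxU
  have : (μ i : R) ∈ x.asIdeal :=
    (PrimeSpectrum.mem_vanishingIdeal _ _).mp (μ i).2 x hxU
  exact hx this

/-- If for every maximal ideal `𝔪` and every `v` some `r ∉ 𝔪` has `r • v ∈ N`, then `N = ⊤`. -/
theorem eq_top_of_forall_maximal {R M : Type*} [CommRing R] [AddCommGroup M] [Module R M]
    (N : Submodule R M)
    (h : ∀ (𝔪 : Ideal R) [𝔪.IsMaximal] (v : M), ∃ r : R, r ∉ 𝔪 ∧ r • v ∈ N) : N = ⊤ := by
  rw [eq_top_iff]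
  rintro v -
  let J : Ideal R := N.comap (LinearMap.toSpanSingleton R M v)
  have hJ : J = ⊤ := by
    by_contra hne
    obtain ⟨𝔪, hmax, hle⟩ := Ideal.exists_le_maximal _ hne
    obtain ⟨r, hr, hrv⟩ := h 𝔪 v
    exact hr (hle (by simpa [J] using hrv))
  have : (1 : R) ∈ J := by rw [hJ]; trivial
  simpa [J] using this

end Groth.Agent.Lib.Helper2.LocGen
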